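import Cfsg.Agent.H315.C7.SkewLem

/-!
# Part (G4): from the Lie algebra to the slots (helper315)
-/

set_option autoImplicit false
set_option linter.unusedSectionVars false
set_option linter.unusedSimpArgs false

namespace Cfsg.Agent.H315.C7

open QuadraticMap hiding proj
open Cfsg.Agent.LieClassical.OrthCore Cfsg.Agent.LieClassical.OrthTrans
open Cfsg.Agent.H882.Ten Cfsg.Agent.LieClassical.OrthFinite Cfsg.Agent.H883.C7

variable {F : Type*} [Field F] {κ : Type*} [Fintype κ] [DecidableEq κ] {ι : Type*} [Fintype ι] [DecidableEq ι]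

theorem sum_bracket (Y : ι → Module.End F (κ → F)) (l : ι) (Z : Module.End F (κ → F)) :
    (∑ m, sl m (Y m)) * sl l Z - sl l Z * (∑ m, sl m (Y m)) = sl l (Y l * Z - Z * Y l) := by
  rw [Finset.sum_mul, Finset.mul_sum, ← Finset.sum_sub_distrib, Finset.sum_eq_single l]
  · rw [sl_sub, sl_mul, sl_mul]
  · intro m _ hm
    rw [sl_comm hm, sub_self]
  · intro h
    exact absurd (Finset.mem_univ l) h

theorem bracket_sum (Y : ι → Module.End F (κ → F)) (l : ι) (Z : Module.End F (κ → F)) :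
    sl l Z * (∑ m, sl m (Y m)) - (∑ m, sl m (Y m)) * sl l Z = sl l (Z * Y l - Y l * Z) := by
  rw [← neg_sub, sum_bracket, sl_sub, sl_sub]
  abel

theorem cj_zero' {V : Type*} [AddCommGroup V] [Module F V] (g : V ≃ₗ[F] V) : cj g (0 : Module.End F V) = 0 :=
  (cjL g).map_zero

theorem cj_inj {V : Type*} [AddCommGroup V] [Module F V] {g : V ≃ₗ[F] V} {a b : Module.End F V}
    (h : cj g a = cj g b) : a = b := by
  have h1 := congrArg (cj g⁻¹) h
  rwa [cj_cj, cj_cj, inv_mul_cancel, one_cj, one_cj] at h1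

theorem sl_zero' (i : ι) : sl i (0 : Module.End F (κ → F)) = 0 := by
  rw [← slA_apply, map_zero]

/-- **Part (G4).** -/
theorem carries_of_soInv [Finite F] {q : QuadraticForm F (κ → F)} (H : Hyp7 q) (ht : 2 ≤ Fintype.card ι)
    {M : Subgroup (((ι → κ) → F) ≃ₗ[F] ((ι → κ) → F))} (hM : Over q M) (hS : SoInv q M) :
    ∀ g ∈ M, ∀ i, ∃ j, Carries g i j := by
  intro g hg i
  have h2 := H.two
  have hq := H.nd
  have hd := H.three
  have hfr : Module.finrank F (κ → F) = Fintype.card κ := Module.finrank_fintype_fun_eq_card F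
  obtain ⟨w, hw0, hw, -⟩ := exists_sing_perp (Q := q) (n := 0) ![] (by rw [hfr]; omega)
  obtain ⟨w', hyp⟩ := LieClassical.OrthTrans.exists_hyp hq hw hw0
  let P : ι → Module.End F (κ → F) → Prop := fun l X => Skew q X ∧ ∃ Y, Skew q Y ∧ cj g (sl i X) = sl l Y
  have cjbr : ∀ A B : Module.End F ((ι → κ) → F), cj g (A * B - B * A) = cj g A * cj g B - cj g B * cj g A := by
    intro A B
    rw [cj_sub', cj_mul', cj_mul']
  have slbr : ∀ A B : Module.End F (κ → F), sl i (A * B - B * A) = sl i A * sl i B - sl i B * sl i A := by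
    intro A B
    rw [sl_sub, sl_mul, sl_mul]
  -- the components of `cj g (sl i X)` give elements of the ideals
  have key1 : ∀ X, Skew q X → ∀ Y : ι → Module.End F (κ → F), (∀ l, Skew q (Y l)) →
      cj g (sl i X) = ∑ l, sl l (Y l) → ∀ l Z, Skew q Z →
      ∃ X', P l X' ∧ cj g (sl i X') = sl l (Y l * Z - Z * Y l) := by
    intro X hX Y hY hXY l Z hZ
    obtain ⟨W, hW, hZW⟩ := hS g⁻¹ (M.inv_mem hg) l Z hZ
    have e1 : cj g (sl i (X * W i - W i * X)) = sl l (Y l * Z - Z * Y l) := by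
      rw [← bracket_sum W i X, cjbr, ← hZW, cj_cj, mul_inv_cancel, one_cj, hXY, sum_bracket]
    exact ⟨_, ⟨Skew.bracket hX (hW i), _, Skew.bracket (hY l) hZ, e1⟩, e1⟩
  have key2 : ∀ l, (∀ X', P l X' → X' = 0) → ∀ X, Skew q X → ∀ Y : ι → Module.End F (κ → F), (∀ l, Skew q (Y l)) →
      cj g (sl i X) = ∑ l, sl l (Y l) → Y l = 0 := by
    intro l hl X hX Y hY hXY
    refine eq_zero_of_comm h2 hq hd hw hw0 (hY l) fun a b => ?_
    obtain ⟨X', hX', h3⟩ := key1 X hX Y hY hXY l (nn q a b) (skew_nn a b)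
    rw [hl X' hX', sl_zero', cj_zero'] at h3
    exact sub_eq_zero.1 (sl_eq_zero hw0 h3.symm)
  -- some ideal is non-zero
  obtain ⟨l, X1, hX1, hX10⟩ : ∃ l X', P l X' ∧ X' ≠ 0 := by
    by_contra hcon
    push Not at hcon
    obtain ⟨Y, hY, hXY⟩ := hS g hg i (nn q w w') (skew_nn w w')
    have h3 : ∀ l, Y l = 0 := fun l => key2 l (hcon l) _ (skew_nn w w') Y hY hXY
    have h4 : cj g (sl i (nn q w w')) = 0 := by
      rw [hXY]
      exact Finset.sum_eq_zero fun l _ => by rw [h3, sl_zero']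
    have h5 : sl i (nn q w w') = 0 := cj_inj (h4.trans (cj_zero' g).symm)
    have h6 := LinearMap.congr_fun (sl_eq_zero hw0 h5) w
    rw [nn_apply, polar_self_of_sing hw, hyp.pair', zero_smul, one_smul, zero_sub, LinearMap.zero_apply,
      neg_eq_zero] at h6
    exact hw0 h6
  have hPbr : ∀ m X X0, P m X → Skew q X0 → P m (X0 * X - X * X0) := by
    rintro m X X0 ⟨hX, Y, hY, hXY⟩ hX0
    obtain ⟨Y0, hY0, hXY0⟩ := hS g hg i X0 hX0
    refine ⟨Skew.bracket hX0 hX, Y0 m * Y - Y * Y0 m, Skew.bracket (hY0 m) hY, ?_⟩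
    rw [slbr, cjbr, hXY, hXY0, sum_bracket]
  -- all the others are zero
  have hl : ∀ m, m ≠ l → ∀ X', P m X' → X' = 0 := by
    intro m hm X' hX'
    by_contra hX'0
    refine no_two H (P := P l) (P' := P m) (fun X h => h.1) (fun X h => h.1) (hPbr l) (hPbr m) hX1 hX10 hX' hX'0 ?_
    rintro X X'' ⟨hX, Y, hY, hXY⟩ ⟨hX'', Y'', hY'', hXY''⟩
    have h3 : cj g (sl i (X * X'' - X'' * X)) = 0 := by
      rw [slbr, cjbr, hXY, hXY'', sl_comm (Ne.symm hm), sub_self]
    have h5 : sl i (X * X'' - X'' * X) = 0 := cj_inj (h3.trans (cj_zero' g).symm)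
    exact sub_eq_zero.1 (sl_eq_zero hw0 h5)
  -- the subalgebra carried into slot `l`
  let S : Subalgebra F (Module.End F (κ → F)) :=
    { carrier := {f | ∃ f', cj g (sl i f) = sl l f'}
      mul_mem' := by
        rintro a b ⟨a', ha⟩ ⟨b', hb⟩
        exact ⟨a' * b', by rw [sl_mul, cj_mul', ha, hb, sl_mul]⟩
      add_mem' := by
        rintro a b ⟨a', ha⟩ ⟨b', hb⟩
        exact ⟨a' + b', by rw [sl_add, cj_add', ha, hb, sl_add]⟩
      algebraMap_mem' := by
        intro r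
        refine ⟨algebraMap F _ r, ?_⟩
        rw [Algebra.algebraMap_eq_smul_one, sl_smul, sl_one, cj_smul', cj_one', sl_smul, sl_one] }
  have hall : ∀ f, f ∈ S := by
    intro f
    refine gen_skew h2 hq hd hw hw0 (fun a b => ?_) f
    obtain ⟨Y, hY, hXY⟩ := hS g hg i (nn q a b) (skew_nn a b)
    refine ⟨Y l, ?_⟩
    rw [hXY, Finset.sum_eq_single l]
    · intro m _ hm
      rw [key2 m (hl m hm) _ (skew_nn a b) Y hY hXY, sl_zero']
    · intro h
      exact absurd (Finset.mem_univ l) h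
  refine ⟨l, fun f => ?_⟩
  obtain ⟨f', hf'⟩ := hall f
  refine ⟨f', fun v => ?_⟩
  rw [← hf', cj_apply]
  have : g⁻¹ (g v) = v := LinearEquiv.symm_apply_apply g v
  rw [this]

end Cfsg.Agent.H315.C7
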