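import Cfsg.Agent.H883.C7.GIface

/-!
# The Lie algebra of skew operators of one slot (helper315)

* `span_all`, `gen_skew` : the skew operators `nn q a b` act irreducibly and generate all operators;
* `eq_zero_of_comm` : a skew operator commuting with all skew operators is `0`;
* `no_two` : no two commuting non-zero ideals.
-/

set_option autoImplicit false
set_option linter.unusedSectionVars false
set_option linter.unusedSimpArgs false

namespace Cfsg.Agent.H315.C7

open QuadraticMap hiding proj
open Cfsg.Agent.LieClassical.OrthCore Cfsg.Agent.LieClassical.OrthTrans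
open Cfsg.Agent.H882.Ten Cfsg.Agent.LieClassical.OrthFinite Cfsg.Agent.H883.C7

variable {F : Type*} [Field F] {κ : Type*} [Fintype κ] [DecidableEq κ] {q : QuadraticForm F (κ → F)}

theorem skew_nn (a b : κ → F) : Skew q (nn q a b) := by
  intro u v
  rw [nn_apply, nn_apply, polar_sub_left, polar_smul_left, polar_smul_left, polar_sub_right, polar_smul_right,
    polar_smul_right, smul_eq_mul, smul_eq_mul, smul_eq_mul, smul_eq_mul, polar_comm q u b, polar_comm q u a]
  ring

theorem Skew.bracket {X Y : Module.End F (κ → F)} (hX : Skew q X) (hY : Skew q Y) : Skew q (X * Y - Y * X) := by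
  intro u v
  rw [LinearMap.sub_apply, LinearMap.sub_apply, polar_sub_left, polar_sub_right, Module.End.mul_apply,
    Module.End.mul_apply, Module.End.mul_apply, Module.End.mul_apply, hX, hY, hY, hX]
  ring

/-- `X` acts on the wedges as a derivation. -/
theorem bracket_nn {X : Module.End F (κ → F)} (hX : Skew q X) (a b : κ → F) :
    X * nn q a b - nn q a b * X = nn q (X a) b + nn q a (X b) := by
  refine LinearMap.ext fun v => ?_
  have h1 := hX a v
  have h2 := hX b v
  simp only [LinearMap.sub_apply, LinearMap.add_apply, Module.End.mul_apply, nn_apply, map_sub, map_smul, h1, h2]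
  module

/-- A subspace containing a singular vector and closed under the wedges is everything. -/
theorem span_all (h2 : (2 : F) ≠ 0) (hq : Nondeg q) (hd : 3 ≤ Fintype.card κ) {w : κ → F} (hw : q w = 0)
    (hw0 : w ≠ 0) {W : Submodule F (κ → F)} (hwW : w ∈ W) (hW : ∀ a b, ∀ v ∈ W, nn q a b v ∈ W) (v : κ → F) :
    v ∈ W := by
  obtain ⟨w', hyp⟩ := LieClassical.OrthTrans.exists_hyp hq hw hw0
  have h1 : ∀ z, polar q z w = 0 → z ∈ W := by
    intro z hz
    have h3 := hW w' z w hwW
    rw [nn_apply, hyp.pair', hz, zero_smul, sub_zero, one_smul] at h3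
    exact h3
  obtain ⟨z, hz1, hz2, hz3⟩ := exists_nonsing_perp hq
    (by rw [Module.finrank_fintype_fun_eq_card]; exact hd) hyp
  have h3 : w' ∈ W := by
    have h4 := hW z w' z (h1 z (by rw [polar_comm]; exact hz1))
    rw [nn_apply, polar_self', hz2, zero_smul, sub_zero] at h4
    exact (W.smul_mem_iff (mul_ne_zero h2 hz3)).1 h4
  have h4 : v - polar q v w • w' ∈ W := by
    apply h1
    rw [polar_sub_left, polar_smul_left, hyp.pair', smul_eq_mul, mul_one, sub_self]
  have h5 := W.add_mem h4 (W.smul_mem (polar q v w) h3)
  rwa [sub_add_cancel] at h5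

/-- The wedges generate all operators. -/
theorem gen_skew (h2 : (2 : F) ≠ 0) (hq : Nondeg q) (hd : 3 ≤ Fintype.card κ) {w : κ → F} (hw : q w = 0)
    (hw0 : w ≠ 0) {S : Subalgebra F (Module.End F (κ → F))} (hS : ∀ a b, nn q a b ∈ S)
    (f : Module.End F (κ → F)) : f ∈ S := by
  obtain ⟨w', hyp⟩ := LieClassical.OrthTrans.exists_hyp hq hw hw0
  obtain ⟨z, hz1, hz2, hz3⟩ := exists_nonsing_perp hq
    (by rw [Module.finrank_fintype_fun_eq_card]; exact hd) hyp
  have hom : om q w ∈ S := by
    have h1 := S.mul_mem (hS w z) (hS w z)
    rw [nn_sq hw hz1] at h1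
    have h3 : -(2 * q z) ≠ 0 := neg_ne_zero.2 (mul_ne_zero h2 hz3)
    have h4 := S.smul_mem h1 (-(2 * q z))⁻¹
    rwa [smul_smul, inv_mul_cancel₀ h3, one_smul] at h4
  -- rank one operators with functional `B(w, ·)`
  have h1 : ∀ u, (polarBilin q w).smulRight u ∈ S := by
    let W : Submodule F (κ → F) :=
      { carrier := {u | (polarBilin q w).smulRight u ∈ S}
        add_mem' := by
          intro a b ha hb
          have : (polarBilin q w).smulRight (a + b) = (polarBilin q w).smulRight a + (polarBilin q w).smulRight b :=
            LinearMap.ext fun v => smul_add _ _ _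
          show (polarBilin q w).smulRight (a + b) ∈ S
          rw [this]
          exact S.add_mem ha hb
        zero_mem' := by
          have : (polarBilin q w).smulRight (0 : κ → F) = (0 : Module.End F (κ → F)) :=
            LinearMap.ext fun v => smul_zero _
          show (polarBilin q w).smulRight (0 : κ → F) ∈ S
          rw [this]
          exact S.zero_mem
        smul_mem' := by
          intro c a ha
          have : (polarBilin q w).smulRight (c • a) = c • (polarBilin q w).smulRight a :=
            LinearMap.ext fun v => smul_comm _ _ _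
          show (polarBilin q w).smulRight (c • a) ∈ S
          rw [this]
          exact S.smul_mem ha c }
    intro u
    refine span_all h2 hq hd hw hw0 (W := W) hom ?_ u
    intro a b v hv
    have h3 := S.mul_mem (hS a b) hv
    have : nn q a b * (polarBilin q w).smulRight v = (polarBilin q w).smulRight (nn q a b v) :=
      LinearMap.ext fun x => by
        rw [Module.End.mul_apply, LinearMap.smulRight_apply, LinearMap.smulRight_apply, map_smul]
    rw [this] at h3
    exact h3
  -- all rank one operators
  have h3 : ∀ x u, (polarBilin q x).smulRight u ∈ S := by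
    let W : Submodule F (κ → F) :=
      { carrier := {x | ∀ u, (polarBilin q x).smulRight u ∈ S}
        add_mem' := by
          intro a b ha hb u
          have : (polarBilin q (a + b)).smulRight u = (polarBilin q a).smulRight u + (polarBilin q b).smulRight u :=
            LinearMap.ext fun v => by
              rw [LinearMap.add_apply, LinearMap.smulRight_apply, LinearMap.smulRight_apply,
                LinearMap.smulRight_apply, polarBilin_apply_apply, polarBilin_apply_apply, polarBilin_apply_apply,
                polar_add_left, add_smul]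
          rw [this]
          exact S.add_mem (ha u) (hb u)
        zero_mem' := by
          intro u
          have : (polarBilin q 0).smulRight u = (0 : Module.End F (κ → F)) :=
            LinearMap.ext fun v => by
              rw [LinearMap.smulRight_apply, polarBilin_apply_apply, polar_zero_left, zero_smul, LinearMap.zero_apply]
          rw [this]
          exact S.zero_mem
        smul_mem' := by
          intro c a ha u
          have : (polarBilin q (c • a)).smulRight u = c • (polarBilin q a).smulRight u :=
            LinearMap.ext fun v => by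
              rw [LinearMap.smul_apply, LinearMap.smulRight_apply, LinearMap.smulRight_apply,
                polarBilin_apply_apply, polarBilin_apply_apply, polar_smul_left, smul_eq_mul, mul_smul]
          rw [this]
          exact S.smul_mem (ha u) c }
    intro x
    refine span_all h2 hq hd hw hw0 (W := W) h1 ?_ x
    intro a b v hv u
    have h4 := S.mul_mem (hv u) (hS a b)
    have : (polarBilin q (nn q a b v)).smulRight u = (-1 : F) • ((polarBilin q v).smulRight u * nn q a b) :=
      LinearMap.ext fun x => by
        rw [LinearMap.smul_apply, LinearMap.smulRight_apply, Module.End.mul_apply, LinearMap.smulRight_apply,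
          polarBilin_apply_apply, polarBilin_apply_apply, skew_nn, smul_smul, neg_one_mul]
    rw [this]
    exact S.smul_mem h4 _
  obtain ⟨d, hdual⟩ := exists_dual hq
  have h4 : f = ∑ b, (polarBilin q (d b)).smulRight (f (Pi.single b 1)) := by
    refine LinearMap.ext fun v => ?_
    rw [LinearMap.sum_apply]
    conv_lhs => rw [← Pi.basisFun F κ |>.sum_repr v]
    rw [map_sum]
    refine Finset.sum_congr rfl fun b _ => ?_
    rw [map_smul, Pi.basisFun_apply, Pi.basisFun_repr, LinearMap.smulRight_apply, polarBilin_apply_apply,
      polar_comm, hdual]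
  rw [h4]
  exact S.sum_mem fun b _ => h3 _ _

/-- The centre of the Lie algebra is zero. -/
theorem eq_zero_of_comm (h2 : (2 : F) ≠ 0) (hq : Nondeg q) (hd : 3 ≤ Fintype.card κ) {w : κ → F} (hw : q w = 0)
    (hw0 : w ≠ 0) {Y : Module.End F (κ → F)} (hY : Skew q Y) (hc : ∀ a b, Y * nn q a b = nn q a b * Y) : Y = 0 := by
  obtain ⟨w', hyp⟩ := LieClassical.OrthTrans.exists_hyp hq hw hw0
  have h1 : ∀ f : Module.End F (κ → F), Y * f = f * Y := by
    intro f
    have := gen_skew h2 hq hd hw hw0 (S := Subalgebra.centralizer F {Y}) (fun a b => by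
      rw [Subalgebra.mem_centralizer_iff]
      rintro _ rfl
      exact hc a b) f
    rw [Subalgebra.mem_centralizer_iff] at this
    exact this Y rfl
  have h3 : ∀ u, Y u = polar q w' (Y w) • u := by
    intro u
    have h4 := LinearMap.congr_fun (h1 ((polarBilin q w').smulRight u)) w
    rw [Module.End.mul_apply, Module.End.mul_apply, LinearMap.smulRight_apply, LinearMap.smulRight_apply,
      polarBilin_apply_apply, polarBilin_apply_apply, hyp.pair', one_smul] at h4
    exact h4
  have h5 := hY w w'
  rw [h3 w', polar_smul_right, h3 w, polar_smul_left, polar_smul_right, hyp.pair', hyp.pair, smul_eq_mul, smul_eq_mul,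
    mul_one, mul_one] at h5
  have h6 : polar q w' (Y w) = 0 := by
    have : (2 : F) * polar q w' (Y w) = 0 := by
      have h7 := h3 w
      have h8 : polar q w' (Y w) = polar q w' (polar q w' (Y w) • w) := by rw [← h7]
      linear_combination h5
    exact (mul_eq_zero.1 this).resolve_left h2
  refine LinearMap.ext fun u => ?_
  rw [h3, h6, zero_smul, LinearMap.zero_apply]

/-- `ad N` is nilpotent for `N ^ 3 = 0` -/
theorem ad_nil {V : Type*} [AddCommGroup V] [Module F V] {N : Module.End F V} (hN : N ^ 3 = 0) :
    ∃ n : ℕ, ∀ g : Module.End F V, (fun T : Module.End F V => N * T - T * N)^[n] g = 0 := by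
  let L : Module.End F (Module.End F V) := LinearMap.mulLeft F N
  let R : Module.End F (Module.End F V) := LinearMap.mulRight F N
  have hLR : Commute L R := LinearMap.commute_mulLeft_right N N
  have hL : IsNilpotent L := by
    refine ⟨3, ?_⟩
    show (LinearMap.mulLeft F N) ^ 3 = 0
    rw [LinearMap.pow_mulLeft, hN]
    exact LinearMap.ext fun x => zero_mul _
  have hR : IsNilpotent R := by
    refine ⟨3, ?_⟩
    show (LinearMap.mulRight F N) ^ 3 = 0
    rw [LinearMap.pow_mulRight, hN]
    exact LinearMap.ext fun x => mul_zero _
  obtain ⟨n, hn⟩ := Commute.isNilpotent_sub hLR hL hR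
  refine ⟨n, fun g => ?_⟩
  have h1 : ∀ m : ℕ, (fun T : Module.End F V => N * T - T * N)^[m] g = ((L - R) ^ m) g := by
    intro m
    induction m with
    | zero => rfl
    | succ m ih =>
      rw [Function.iterate_succ_apply', ih, pow_succ']
      rfl
  rw [h1, hn, LinearMap.zero_apply]

theorem nn_cube {w z : κ → F} (hw : q w = 0) (hz : polar q w z = 0) : nn q w z ^ 3 = 0 := by
  rw [pow_succ, pow_two, nn_sq hw hz, smul_mul_assoc, om_nn hw hz, smul_zero]

/-- A non-zero ideal contains some `w ∧ y ≠ 0`, `y ⊥ w, w'`. -/
theorem exists_nn [Finite F] (h2 : (2 : F) ≠ 0) (hq : Nondeg q) (hd : 3 ≤ Fintype.card κ) {w w' : κ → F}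
    (hyp : Hyp q w w') {P : Module.End F (κ → F) → Prop} (hP : ∀ X, P X → Skew q X)
    (hbr : ∀ X X0, P X → Skew q X0 → P (X0 * X - X * X0)) {X : Module.End F (κ → F)} (hX : P X) (hX0 : X ≠ 0) :
    ∃ y, y ≠ 0 ∧ polar q w y = 0 ∧ polar q w' y = 0 ∧ P (nn q w y) := by
  classical
  have hw := hyp.left
  let I := {z : κ → F // polar q w z = 0}
  have : Finite I := inferInstance
  have : Fintype I := Fintype.ofFinite I
  let D : I → Module.End F (κ → F) → Module.End F (κ → F) := fun z T => nn q w z * T - T * nn q w z
  have hNN : ∀ z z' : I, nn q w z * nn q w z' = nn q w z' * nn q w z := by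
    intro z z'
    rw [nn_mul_perp hw z.2 z'.2, nn_mul_perp hw z'.2 z.2, polar_comm]
  have hcomm : ∀ i j g, D i (D j g) = D j (D i g) := by
    intro i j g
    show nn q w i * (nn q w j * g - g * nn q w j) - (nn q w j * g - g * nn q w j) * nn q w i =
      nn q w j * (nn q w i * g - g * nn q w i) - (nn q w i * g - g * nn q w i) * nn q w j
    have h1 := hNN i j
    rw [mul_sub, sub_mul, mul_sub, sub_mul, ← mul_assoc, ← mul_assoc (nn q w j) (nn q w i) g, h1,
      mul_assoc g, mul_assoc g, h1]
    simp only [mul_assoc]
    abel
  obtain ⟨T, hT, hT0, hTD⟩ := exists_common D hcomm {X | P X} {0} rfl (fun i g hg => hbr _ _ hg (skew_nn _ _))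
    (fun i g hg => by
      rw [Set.mem_singleton_iff] at hg ⊢
      subst hg
      show nn q w i * 0 - 0 * nn q w i = 0
      rw [mul_zero, zero_mul, sub_zero]) (fun i => by
        obtain ⟨n, hn⟩ := ad_nil (nn_cube hw i.2)
        exact ⟨n, fun g _ => hn g⟩) hX (by simpa using hX0) Finset.univ
  have hTs : Skew q T := hP _ hT
  have hc : ∀ z, polar q w z = 0 → ∀ v, nn q w z (T v) = T (nn q w z v) := by
    intro z hz v
    have h1 : D ⟨z, hz⟩ T = 0 := hTD ⟨z, hz⟩ (Finset.mem_univ _)
    have h3 : nn q w z * T - T * nn q w z = 0 := h1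
    exact LinearMap.congr_fun (sub_eq_zero.1 h3) v
  -- the values of `T`
  have hTT : ∀ v, polar q v (T v) = 0 := by
    intro v
    have h1 := hTs v v
    rw [polar_comm] at h1
    have : (2 : F) * polar q v (T v) = 0 := by linear_combination h1
    exact (mul_eq_zero.1 this).resolve_left h2
  have hz1 : ∀ z, polar q w z = 0 → polar q w' z = 0 →
      T z = polar q w (T w') • z - polar q z (T w') • w := by
    intro z hz hz'
    have h1 := hc z hz w'
    rw [nn_apply, nn_apply, hyp.pair, polar_comm q z w', hz', zero_smul, sub_zero, one_smul] at h1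
    exact h1.symm
  obtain ⟨z, hza, hzb, hzc⟩ := exists_nonsing_perp hq
    (by rw [Module.finrank_fintype_fun_eq_card]; exact hd) hyp
  have hc0 : polar q w (T w') = 0 := by
    have h1 := hTT z
    rw [hz1 z hza hzb, polar_sub_right, polar_smul_right, polar_smul_right, polar_comm q z w, hza, polar_self',
      smul_eq_mul, smul_eq_mul, mul_zero, sub_zero] at h1
    exact (mul_eq_zero.1 h1).resolve_right (mul_ne_zero h2 hzc)
  have hTw : T w = 0 := by
    have h1 := hc z hza z
    rw [hz1 z hza hzb, hc0, zero_smul, zero_sub, nn_apply, nn_apply, hza, zero_smul, zero_sub, polar_neg_right,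
      polar_neg_right, polar_smul_right, polar_smul_right, polar_self_of_sing hw, polar_comm q z w, hza, polar_self',
      map_neg, map_smul] at h1
    have h3 : (2 * q z) • T w = 0 := by
      rw [← neg_eq_zero, ← h1]
      simp
    exact (smul_eq_zero.1 h3).resolve_left (mul_ne_zero h2 hzc)
  have hy1 : polar q w (T w') = 0 := hc0
  have hy2 : polar q w' (T w') = 0 := hTT w'
  have hTn : T = nn q w (T w') := by
    refine LinearMap.ext fun v => ?_
    obtain ⟨v0, hv0⟩ : ∃ v0, v0 = v - polar q w' v • w - polar q w v • w' := ⟨_, rfl⟩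
    have e1 : polar q w v0 = 0 := by
      rw [hv0, polar_sub_right, polar_sub_right, polar_smul_right, polar_smul_right, hyp.pair,
        polar_self_of_sing hw]
      simp
    have e2 : polar q w' v0 = 0 := by
      rw [hv0, polar_sub_right, polar_sub_right, polar_smul_right, polar_smul_right, hyp.pair',
        polar_self_of_sing hyp.right]
      simp
    have e3 : v = v0 + polar q w' v • w + polar q w v • w' := by rw [hv0]; module
    have e4 : polar q (T w') v = polar q v0 (T w') := by
      conv_lhs => rw [e3]
      rw [polar_add_right, polar_add_right, polar_smul_right, polar_smul_right, polar_comm q (T w') w, hy1,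
        polar_comm q (T w') w', hy2, smul_zero, smul_zero, add_zero, add_zero, polar_comm]
    rw [nn_apply, e4]
    conv_lhs => rw [e3]
    rw [map_add, map_add, map_smul, map_smul, hTw, hz1 v0 e1 e2, hc0]
    module
  refine ⟨T w', ?_, hy1, hy2, ?_⟩
  · intro h
    apply hT0
    rw [Set.mem_singleton_iff, hTn, h]
    refine LinearMap.ext fun v => ?_
    rw [nn_apply, polar_zero_left]
    simp
  · rw [← hTn]; exact hT

/-- **No two commuting non-zero ideals.** -/
theorem no_two [Finite F] (H : Hyp7 q) {P P' : Module.End F (κ → F) → Prop} (hP : ∀ X, P X → Skew q X)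
    (hP' : ∀ X, P' X → Skew q X) (hbr : ∀ X X0, P X → Skew q X0 → P (X0 * X - X * X0))
    (hbr' : ∀ X X0, P' X → Skew q X0 → P' (X0 * X - X * X0)) {X X' : Module.End F (κ → F)} (hX : P X)
    (hX0 : X ≠ 0) (hX' : P' X') (hX0' : X' ≠ 0) (hcomm : ∀ X X', P X → P' X' → X * X' = X' * X) : False := by
  have h2 := H.two
  have hq := H.nd
  have hd := H.three
  have hfr : Module.finrank F (κ → F) = Fintype.card κ := Module.finrank_fintype_fun_eq_card F
  obtain ⟨w, hw0, hw, -⟩ := exists_sing_perp (Q := q) (n := 0) ![] (by rw [hfr]; omega)
  obtain ⟨w', hyp⟩ := LieClassical.OrthTrans.exists_hyp hq hw hw0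
  obtain ⟨y1, h10, h1w, h1w', hP1⟩ := exists_nn h2 hq hd hyp hP hbr hX hX0
  obtain ⟨y2, h20, h2w, h2w', hP2⟩ := exists_nn h2 hq hd hyp hP' hbr' hX' hX0'
  have key : ∀ x, polar q w x = 0 → polar q w' x = 0 →
      polar q y1 y2 • x = polar q x y2 • y1 + polar q x y1 • y2 := by
    intro x hx hx'
    have h3 := hcomm _ _ hP1 (hbr' _ (nn q w' x) hP2 (skew_nn _ _))
    rw [bracket_nn (skew_nn _ _)] at h3
    have h4 := LinearMap.congr_fun h3 w'
    have e1 : polar q x w = 0 := by rw [polar_comm]; exact hx
    have e2 : polar q x w' = 0 := by rw [polar_comm]; exact hx'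
    have e3 : polar q y1 w = 0 := by rw [polar_comm]; exact h1w
    have e4 : polar q y1 w' = 0 := by rw [polar_comm]; exact h1w'
    have e5 : polar q y2 w = 0 := by rw [polar_comm]; exact h2w
    have e6 : polar q y2 w' = 0 := by rw [polar_comm]; exact h2w'
    have e7 : polar q y2 y1 = polar q y1 y2 := polar_comm _ _ _
    simp only [Module.End.mul_apply, LinearMap.add_apply, nn_apply, hyp.pair, hyp.pair', polar_self_of_sing hw,
      polar_self_of_sing hyp.right, hx, hx', e1, e2, e3, e4, e5, e6, e7, h1w, h1w', h2w, h2w', polar_sub_left,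
      polar_smul_left, polar_sub_right, polar_add_right, polar_smul_right, zero_smul, one_smul, smul_zero, zero_sub,
      sub_zero, add_zero, zero_add, smul_eq_mul, mul_zero, mul_one, polar_neg_left, polar_neg_right] at h4
    linear_combination (norm := module) h4
  have hq1 : q y1 = 0 := by
    have h3 := key y1 h1w h1w'
    rw [polar_self'] at h3
    have h4 : (2 * q y1) • y2 = 0 := by
      have := left_eq_add.1 h3
      exact this
    exact (mul_eq_zero.1 ((smul_eq_zero.1 h4).resolve_right h20)).resolve_left h2
  have hq2 : q y2 = 0 := by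
    have h3 := key y2 h2w h2w'
    rw [polar_self', polar_comm q y2 y1] at h3
    have h4 : (2 * q y2) • y1 = 0 := by
      have := right_eq_add.1 h3
      exact this
    exact (mul_eq_zero.1 ((smul_eq_zero.1 h4).resolve_right h10)).resolve_left h2
  by_cases hb : polar q y1 y2 = 0
  · obtain ⟨v, hv⟩ := hq.exists_polar_eq h20 1
    obtain ⟨x, hx⟩ : ∃ x, x = v - polar q w' v • w - polar q w v • w' := ⟨_, rfl⟩
    have e1 : polar q w x = 0 := by
      rw [hx, polar_sub_right, polar_sub_right, polar_smul_right, polar_smul_right, hyp.pair,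
        polar_self_of_sing hw]
      simp
    have e2 : polar q w' x = 0 := by
      rw [hx, polar_sub_right, polar_sub_right, polar_smul_right, polar_smul_right, hyp.pair',
        polar_self_of_sing hyp.right]
      simp
    have e3 : polar q x y2 = 1 := by
      rw [hx, polar_comm, polar_sub_right, polar_sub_right, polar_smul_right, polar_smul_right, hv,
        polar_comm q y2 w, h2w, polar_comm q y2 w', h2w']
      simp
    have h3 := key x e1 e2
    rw [hb, zero_smul, e3, one_smul] at h3
    have h4 := congrArg (polar q x) h3
    rw [polar_zero_right, polar_add_right, polar_smul_right, e3, smul_eq_mul, mul_one] at h4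
    have h5 : polar q x y1 = 0 := by
      have : (2 : F) * polar q x y1 = 0 := by linear_combination -h4
      exact (mul_eq_zero.1 this).resolve_left h2
    rw [h5, zero_smul, add_zero] at h3
    exact h10 h3.symm
  · rcases (show Fintype.card κ = 3 ∨ Fintype.card κ = 4 ∨ 5 ≤ Fintype.card κ by omega) with h3 | h3 | h3
    · have hli : LinearIndependent F ![w, w', y1, y2] := by
        rw [Fintype.linearIndependent_iff]
        intro g hg
        rw [Fin.sum_univ_four] at hg
        have hg' : g 0 • w + g 1 • w' + g 2 • y1 + g 3 • y2 = 0 := hg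
        have a0 := congrArg (polar q w') hg'
        have a1 := congrArg (polar q w) hg'
        have a2 := congrArg (polar q y2) hg'
        have a3 := congrArg (polar q y1) hg'
        simp only [polar_add_right, polar_smul_right, hyp.pair, hyp.pair', polar_self_of_sing hw,
          polar_self_of_sing hyp.right, h1w, h1w', h2w, h2w', polar_comm q y1 w, polar_comm q y1 w',
          polar_comm q y2 w, polar_comm q y2 w', polar_self_of_sing hq1, polar_self_of_sing hq2,
          polar_comm q y2 y1, polar_zero_right, smul_eq_mul, mul_zero, mul_one, add_zero, zero_add] at a0 a1 a2 a3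
        have a2' := (mul_eq_zero.1 a2).resolve_right hb
        have a3' := (mul_eq_zero.1 a3).resolve_right hb
        intro i
        fin_cases i
        · exact a0
        · exact a1
        · exact a2'
        · exact a3'
      have h4 := hli.fintype_card_le_finrank
      rw [hfr, h3, Fintype.card_fin] at h4
      omega
    · obtain ⟨c, hc⟩ := H.four h3 w y1 hw0 hw hq1 h1w
      rw [hc, polar_smul_right, hyp.pair', smul_eq_mul, mul_one] at h1w'
      rw [h1w', zero_smul] at hc
      exact h10 hc
    · obtain ⟨x, hx0, hx⟩ := exists_perp_ne (Q := q) ![w, w', y1, y2] (by rw [hfr]; omega)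
      have e0 : polar q w x = 0 := hx 0
      have e1 : polar q w' x = 0 := hx 1
      have e2 : polar q y1 x = 0 := hx 2
      have e3 : polar q y2 x = 0 := hx 3
      have h4 := key x e0 e1
      rw [polar_comm q x y2, e3, polar_comm q x y1, e2, zero_smul, zero_smul, add_zero] at h4
      exact (smul_eq_zero.1 h4).elim hb hx0

end Cfsg.Agent.H315.C7
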